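/-
Sheaves of sets on a basis: cofinal coverings, compatibility, extension to all opens.
-/
import Groth.Prelude.Def_W4stktopologysheavesBas
import Mathlib

set_option autoImplicit false
set_option backward.isDefEq.respectTransparency false

universe u

open TopologicalSpace CategoryTheory Opposite

namespace Groth.Agent.ShBLib

variable {X : Type u} [TopologicalSpace X] {B : Set (Opens X)}

theorem res_congr (F : ShB.Pre B) {U V W : B} (h₁ : (V : Opens X) ≤ U) (h₂ : (W : Opens X) ≤ V)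
    (h₃ : (W : Opens X) ≤ U) (s : F.obj U) : F.res h₂ (F.res h₁ s) = F.res h₃ s := F.res_comp h₁ h₂ s

/-- The members of `B` below a given open cover it. -/
theorem le_iSup_below (hB : Opens.IsBasis B) (O : Opens X) :
    O ≤ ⨆ U : {U : B // (U : Opens X) ≤ O}, (U.1 : Opens X) := fun x hx => by
  obtain ⟨U, hU, hxU, hUO⟩ := (Opens.isBasis_iff_nbhd.1 hB) hx
  exact Opens.mem_iSup.2 ⟨⟨⟨U, hU⟩, hUO⟩, hxU⟩

/-- Members below `O` and below some member of a family covering `O`. -/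
theorem le_iSup_below₂ (hB : Opens.IsBasis B) (O : Opens X) {ι : Type u} (V : ι → Opens X)
    (hV : O ≤ ⨆ i, V i) :
    O ≤ ⨆ p : Σ i, {U : B // (U : Opens X) ≤ O ⊓ V i}, (p.2.1 : Opens X) := fun x hx => by
  obtain ⟨i, hi⟩ := Opens.mem_iSup.1 (hV hx)
  obtain ⟨U, hU, hxU, hUO⟩ := (Opens.isBasis_iff_nbhd.1 hB) (show x ∈ O ⊓ V i from ⟨hx, hi⟩)
  exact Opens.mem_iSup.2 ⟨⟨i, ⟨U, hU⟩, hUO⟩, hxU⟩

section Cofinal

variable (hB : Opens.IsBasis B) (F : ShB.Pre B) (C : ∀ U : B, Set (ShB.Cover B))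
  (hCU : ∀ U, ∀ c ∈ C U, c.U = U)
  (hC : ∀ (U : B) (ι : Type u) (V : ι → B), (∀ i, (V i : Opens X) ≤ (U : Opens X)) →
    (U : Opens X) ≤ ⨆ i, (V i : Opens X) →
    ∃ c ∈ C U, ∀ i' : c.ι, ∃ i, (c.V i' : Opens X) ≤ (V i : Opens X))

include hCU hC in
theorem eq_of_cover (hG : ∀ U, ∀ c ∈ C U, ShB.GluesUniquely F c) {U : B} {ι : Type u} (V : ι → B)
    (hV : ∀ i, (V i : Opens X) ≤ (U : Opens X)) (hcov : (U : Opens X) ≤ ⨆ i, (V i : Opens X))
    (s t : F.obj U) (h : ∀ i, F.res (hV i) s = F.res (hV i) t) : s = t := by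
  obtain ⟨c, hc, href⟩ := hC U ι V hV hcov
  have hg := hG U c hc
  obtain rfl := hCU U c hc
  choose a ha using href
  refine (hg (fun i => F.res (c.V_le i) s) fun i j k => ?_).unique (fun i => rfl) fun i => ?_
  · rw [F.res_comp, F.res_comp]
  · rw [← res_congr F (hV (a i)) (ha i) (c.V_le i), ← res_congr F (hV (a i)) (ha i) (c.V_le i), h]

include hB hCU hC in
theorem compat (hG : ∀ U, ∀ c ∈ C U, ShB.GluesUniquely F c) (c : ShB.Cover B)
    (s : ∀ i, F.obj (c.V i))
    (hs : ∀ i j k, F.res (c.W_le_left i j k) (s i) = F.res (c.W_le_right i j k) (s j))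
    {W : B} (a b : c.ι) (ha : (W : Opens X) ≤ c.V a) (hb : (W : Opens X) ≤ c.V b) :
    F.res ha (s a) = F.res hb (s b) := by
  refine eq_of_cover F C hCU hC hG (fun p : Σ k, {U : B // (U : Opens X) ≤ (W : Opens X) ⊓ c.W a b k} => p.2.1)
    (fun p => p.2.2.trans inf_le_left) (le_iSup_below₂ hB _ _ ((le_inf ha hb).trans (c.W_cover a b))) _ _
    fun p => ?_
  rw [F.res_comp, F.res_comp,
    ← res_congr F (c.W_le_left a b p.1) (p.2.2.trans inf_le_right) ((p.2.2.trans inf_le_left).trans ha),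
    ← res_congr F (c.W_le_right a b p.1) (p.2.2.trans inf_le_right) ((p.2.2.trans inf_le_left).trans hb), hs]

include hB hCU hC in
theorem isSheaf_of_cofinal (hG : ∀ U, ∀ c ∈ C U, ShB.GluesUniquely F c) : ShB.IsSheaf F := by
  intro c s hs
  obtain ⟨d, hd, href⟩ := hC c.U c.ι c.V c.V_le c.V_cover
  choose a ha using href
  have hU := hCU c.U d hd
  have hle : (d.U : Opens X) ≤ c.U := le_of_eq (congrArg Subtype.val hU)
  have hle' : (c.U : Opens X) ≤ d.U := le_of_eq (congrArg Subtype.val hU.symm)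
  obtain ⟨t, ht, -⟩ := hG c.U d hd (fun i => F.res (ha i) (s (a i))) fun i j k => by
    rw [F.res_comp, F.res_comp]
    exact compat hB F C hCU hC hG c s hs _ _ _ _
  have hglue : ∀ i, F.res (c.V_le i) (F.res hle' t) = s i := fun i => by
    refine eq_of_cover F C hCU hC hG
      (fun p : Σ i' : d.ι, {U : B // (U : Opens X) ≤ (c.V i : Opens X) ⊓ d.V i'} => p.2.1)
      (fun p => p.2.2.trans inf_le_left)
      (le_iSup_below₂ hB _ _ (((c.V_le i).trans hle').trans d.V_cover)) _ _ fun p => ?_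
    have h := congrArg (F.res (p.2.2.trans inf_le_right)) (ht p.1)
    rw [F.res_comp, F.res_comp] at h
    rw [F.res_comp, F.res_comp]
    exact h.trans (compat hB F C hCU hC hG c s hs _ _ _ (p.2.2.trans inf_le_left))
  exact ⟨F.res hle' t, hglue, fun t' ht' =>
    eq_of_cover F C hCU hC hG c.V c.V_le c.V_cover _ _ fun i => (ht' i).trans (hglue i).symm⟩

end Cofinal

/-- A cover with all members below the intersections as intersection cover. -/
def coverOf (hB : Opens.IsBasis B) (U : B) {ι : Type u} (V : ι → B)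
    (hV : ∀ i, (V i : Opens X) ≤ (U : Opens X)) (hcov : (U : Opens X) ≤ ⨆ i, (V i : Opens X)) :
    ShB.Cover B where
  U := U
  ι := ι
  V := V
  V_le := hV
  V_cover := hcov
  κ i j := {W : B // (W : Opens X) ≤ (V i : Opens X) ⊓ V j}
  W i j k := k.1
  W_le_left i j k := k.2.trans inf_le_left
  W_le_right i j k := k.2.trans inf_le_right
  W_cover i j := le_iSup_below hB _

/-- All coverings form a cofinal system. -/
theorem glue (hB : Opens.IsBasis B) (F : ShB.Pre B) (hF : ShB.IsSheaf F) (U : B) {ι : Type u} (V : ι → B)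
    (hV : ∀ i, (V i : Opens X) ≤ (U : Opens X)) (hcov : (U : Opens X) ≤ ⨆ i, (V i : Opens X))
    (s : ∀ i, F.obj (V i))
    (hs : ∀ i j (W : B) (hi : (W : Opens X) ≤ V i) (hj : (W : Opens X) ≤ V j),
      F.res hi (s i) = F.res hj (s j)) :
    ∃! t : F.obj U, ∀ i, F.res (hV i) t = s i :=
  hF (coverOf hB U V hV hcov) s fun i j k => hs i j k.1 _ _

theorem sheaf_eq (hB : Opens.IsBasis B) (F : ShB.Pre B) (hF : ShB.IsSheaf F) {U : B} {ι : Type u} (V : ι → B)
    (hV : ∀ i, (V i : Opens X) ≤ (U : Opens X)) (hcov : (U : Opens X) ≤ ⨆ i, (V i : Opens X))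
    (s t : F.obj U) (h : ∀ i, F.res (hV i) s = F.res (hV i) t) : s = t :=
  (glue hB F hF U V hV hcov (fun i => F.res (hV i) s)
    (fun i j W hi hj => by rw [F.res_comp, F.res_comp])).unique (fun i => rfl) fun i => (h i).symm

/-- The extension of a presheaf on `B` to all opens: compatible families. -/
abbrev ext (F : ShB.Pre B) : (Opens X)ᵒᵖ ⥤ Type u where
  obj O := {s : ∀ U : {U : B // (U : Opens X) ≤ O.unop}, F.obj U.1 //
    ∀ (U V : {U : B // (U : Opens X) ≤ O.unop}) (h : (V.1 : Opens X) ≤ U.1), F.res h (s U) = s V}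
  map {O O'} f := TypeCat.ofHom fun s =>
    ⟨fun U => s.1 ⟨U.1, U.2.trans (leOfHom f.unop)⟩, fun U V h =>
      s.2 ⟨U.1, U.2.trans (leOfHom f.unop)⟩ ⟨V.1, V.2.trans (leOfHom f.unop)⟩ h⟩
  map_id O := rfl
  map_comp f g := rfl

theorem ext_isSheaf (hB : Opens.IsBasis B) (F : ShB.Pre B) (hF : ShB.IsSheaf F) :
    TopCat.Presheaf.IsSheaf (X := TopCat.of X) (ext F) := by
  refine TopCat.Presheaf.isSheaf_of_isSheafUniqueGluing_types _ fun ι O sf cpt => ?_
  have hc : ∀ (i j : ι) (W : B) (hi : (W : Opens X) ≤ O i) (hj : (W : Opens X) ≤ O j),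
      (sf i).1 ⟨W, hi⟩ = (sf j).1 ⟨W, hj⟩ := fun i j W hi hj =>
    congrFun (congrArg Subtype.val (cpt i j)) ⟨W, le_inf hi hj⟩
  have hg : ∀ U : {U : B // (U : Opens X) ≤ iSup O}, ∃! t : F.obj U.1,
      ∀ p : Σ i : ι, {W : B // (W : Opens X) ≤ (U.1 : Opens X) ⊓ O i},
        F.res (p.2.2.trans inf_le_left) t = (sf p.1).1 ⟨p.2.1, p.2.2.trans inf_le_right⟩ := fun U =>
    glue hB F hF U.1 (fun p : Σ i : ι, {W : B // (W : Opens X) ≤ (U.1 : Opens X) ⊓ O i} => p.2.1)
      (fun p => p.2.2.trans inf_le_left) (le_iSup_below₂ hB _ _ U.2)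
      (fun p => (sf p.1).1 ⟨p.2.1, p.2.2.trans inf_le_right⟩) fun p q W hp hq => by
      rw [(sf p.1).2 _ ⟨W, hp.trans (p.2.2.trans inf_le_right)⟩ hp,
        (sf q.1).2 _ ⟨W, hq.trans (q.2.2.trans inf_le_right)⟩ hq]
      exact hc _ _ _ _ _
  choose g hg hguniq using hg
  refine ⟨⟨g, fun U V h => hguniq V _ fun p => ?_⟩, fun i => Subtype.ext (funext fun W => ?_), fun t ht => ?_⟩
  · rw [F.res_comp]
    exact hg U ⟨p.1, p.2.1, p.2.2.trans (inf_le_inf_right _ h)⟩
  · obtain ⟨W, hW⟩ := W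
    have h := hg ⟨W, hW.trans (le_iSup O i)⟩ ⟨i, W, le_inf le_rfl hW⟩
    rw [F.res_id] at h
    exact h
  · refine Subtype.ext (funext fun U => hguniq U _ fun p => ?_)
    rw [t.2 U ⟨p.2.1, (p.2.2.trans inf_le_left).trans U.2⟩ _]
    exact congrFun (congrArg Subtype.val (ht p.1)) ⟨p.2.1, p.2.2.trans inf_le_right⟩

/-- Restricting the extension gives back the presheaf. -/
def extIso (F : ShB.Pre B) : ShB.Iso (ShB.restrict B (ext F)) F where
  hom :=
    { app := fun U s => s.1 ⟨U, le_rfl⟩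
      natural := fun {U V} h s => (s.2 ⟨U, le_rfl⟩ ⟨V, h⟩ h).trans rfl }
  inv :=
    { app := fun U s => ⟨fun V => F.res V.2 s, fun V W h => F.res_comp _ _ _⟩
      natural := fun h s => Subtype.ext (funext fun V => (F.res_comp h V.2 s).symm) }
  hom_inv U s := Subtype.ext (funext fun V => s.2 ⟨U, le_rfl⟩ V V.2)
  inv_hom U t := F.res_id U t

section Hom

variable {Y : TopCat.{u}} {D : Set (Opens Y)}

/-- Unique gluing in a sheaf over the members of a basis. -/
theorem glue_basis (hD : Opens.IsBasis D) (Q : Y.Sheaf (Type u)) (O : Opens Y)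
    (s : ∀ U : {U : D // (U : Opens Y) ≤ O}, Q.presheaf.obj (op (U.1 : Opens Y)))
    (hs : ∀ (U V : {U : D // (U : Opens Y) ≤ O}) (h : (V.1 : Opens Y) ≤ U.1),
      Q.presheaf.map (homOfLE h).op (s U) = s V) :
    ∃! t : Q.presheaf.obj (op O), ∀ U, Q.presheaf.map (homOfLE U.2).op t = s U := by
  refine Q.existsUnique_gluing' (fun U : {U : D // (U : Opens Y) ≤ O} => (U.1 : Opens Y)) O
    (fun U => homOfLE U.2) (le_iSup_below hD O) s fun U V => ?_
  refine Q.eq_of_locally_eq' (fun W : {W : D // (W : Opens Y) ≤ (U.1 : Opens Y) ⊓ V.1} => (W.1 : Opens Y))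
    _ (fun W => homOfLE W.2) (le_iSup_below hD _) _ _ fun W => ?_
  change (Q.presheaf.map _ ≫ Q.presheaf.map _) (s U) = (Q.presheaf.map _ ≫ Q.presheaf.map _) (s V)
  rw [← Q.presheaf.map_comp, ← Q.presheaf.map_comp]
  exact (hs U ⟨W.1, (W.2.trans inf_le_left).trans U.2⟩ (W.2.trans inf_le_left)).trans
    (hs V ⟨W.1, (W.2.trans inf_le_left).trans U.2⟩ (W.2.trans inf_le_right)).symm

theorem eq_basis (hD : Opens.IsBasis D) (Q : Y.Sheaf (Type u)) (O : Opens Y) (a b : Q.presheaf.obj (op O))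
    (h : ∀ U : {U : D // (U : Opens Y) ≤ O},
      Q.presheaf.map (homOfLE U.2).op a = Q.presheaf.map (homOfLE U.2).op b) : a = b :=
  Q.eq_of_locally_eq' (fun U : {U : D // (U : Opens Y) ≤ O} => (U.1 : Opens Y)) O
    (fun U => homOfLE U.2) (le_iSup_below hD O) a b h

/-- A morphism into a sheaf is determined by, and can be prescribed on, a basis. -/
theorem existsUnique_hom (hD : Opens.IsBasis D) (P Q : Y.Sheaf (Type u))
    (ψ : ∀ U : D, P.presheaf.obj (op (U : Opens Y)) → Q.presheaf.obj (op (U : Opens Y)))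
    (hψ : ∀ (U V : D) (h : (V : Opens Y) ≤ U) (s : P.presheaf.obj (op (U : Opens Y))),
      Q.presheaf.map (homOfLE h).op (ψ U s) = ψ V (P.presheaf.map (homOfLE h).op s)) :
    ∃! φ : P ⟶ Q, ∀ (U : D) (s : P.presheaf.obj (op (U : Opens Y))),
      φ.1.app (op (U : Opens Y)) s = ψ U s := by
  have h : ∀ (O : (Opens Y)ᵒᵖ) (s : P.presheaf.obj O), ∃! t : Q.presheaf.obj O,
      ∀ U : {U : D // (U : Opens Y) ≤ O.unop},
        Q.presheaf.map (homOfLE U.2).op t = ψ U.1 (P.presheaf.map (homOfLE U.2).op s) := fun O s =>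
    glue_basis hD Q O.unop (fun U => ψ U.1 (P.presheaf.map (homOfLE U.2).op s)) fun U V h => by
      rw [hψ, ← ConcreteCategory.comp_apply, ← P.presheaf.map_comp]
      rfl
  choose f hf hfu using h
  refine ⟨⟨{ app := fun O => TypeCat.ofHom (f O), naturality := fun O O' i => ?_ }⟩, fun U s => ?_,
    fun φ hφ => ?_⟩
  · ext s
    refine (hfu O' _ _ fun U => ?_).symm
    change (Q.presheaf.map i ≫ Q.presheaf.map _) (f O s) = ψ U.1 ((P.presheaf.map i ≫ P.presheaf.map _) s)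
    rw [← Q.presheaf.map_comp, ← P.presheaf.map_comp]
    exact hf O s ⟨U.1, U.2.trans (leOfHom i.unop)⟩
  · have := hf (op (U : Opens Y)) s ⟨U, le_rfl⟩
    simpa using this
  · refine CategoryTheory.Sheaf.hom_ext (NatTrans.ext (funext fun O => ConcreteCategory.hom_ext _ _ fun s => ?_))
    refine hfu O s _ fun U => ?_
    rw [← hφ, ← NatTrans.naturality_apply]

end Hom

end Groth.Agent.ShBLib
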